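import Mathlib

/-!
# Étale charts of smooth morphisms
-/

set_option autoImplicit false
set_option linter.style.haveILetI false
set_option backward.isDefEq.respectTransparency false

universe u

open CategoryTheory CategoryTheory.Limits AlgebraicGeometry MvPolynomial

noncomputable section

namespace Groth.Agent.EtChart

theorem smooth_over (n : Type u) [Finite n] (T : Scheme.{u}) : Smooth (AffineSpace n T ↘ T) := by
  haveI : MorphismProperty.RespectsIso @Smooth.{u} :=
    HasRingHomProperty.eq_affineLocally (P := @Smooth.{u}) ▸
      affineLocally_respectsIso (P := RingHom.Smooth) RingHom.Smooth.propertyIsLocal.respectsIso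
  refine MorphismProperty.pullback_fst (P := @Smooth) _ _ ?_
  have := isIso_of_isTerminal specULiftZIsTerminal.{u} terminalIsTerminal (terminal.from _)
  rw [← terminal.comp_from (Spec.map (CommRingCat.ofHom MvPolynomial.C)),
    MorphismProperty.cancel_right_of_respectsIso (P := @Smooth), HasRingHomProperty.Spec_iff (P := @Smooth)]
  exact RingHom.smooth_algebraMap.2 (show Algebra.Smooth (ULift.{u} ℤ) (MvPolynomial n (ULift.{u} ℤ))
    from ⟨inferInstance, inferInstance⟩)

/-- A morphism of affine schemes to affine space is étale if the ring map is. -/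
theorem etale_homOfVector_of_isAffine {n : Type u} {X S : Scheme.{u}} [IsAffine X] [IsAffine S]
    (f : X ⟶ S) (w : n → Γ(X, ⊤)) (h : (eval₂Hom f.appTop.hom w).Etale) :
    Etale (AffineSpace.homOfVector f w) := by
  have e : AffineSpace.homOfVector f w ≫ (AffineSpace.isoOfIsAffine n S).hom =
      X.toSpecΓ ≫ Spec.map (CommRingCat.ofHom (eval₂Hom f.appTop.hom w)) := by
    rw [AffineSpace.isoOfIsAffine_hom, Scheme.toSpecΓ_naturality_assoc, ← Spec.map_comp]
    congr 2
    ext : 1
    apply MvPolynomial.ringHom_ext
    · intro a
      simp only [CommRingCat.hom_comp, CommRingCat.hom_ofHom, RingHom.comp_apply, eval₂Hom_C]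
      rw [← CommRingCat.comp_apply, ← Scheme.Hom.comp_appTop, AffineSpace.homOfVector_over]
    · intro j
      simp only [CommRingCat.hom_comp, CommRingCat.hom_ofHom, RingHom.comp_apply, eval₂Hom_X']
      exact AffineSpace.homOfVector_appTop_coord f w j
  rw [← MorphismProperty.cancel_right_of_respectsIso (P := @Etale) _ (AffineSpace.isoOfIsAffine n S).hom, e,
    MorphismProperty.cancel_left_of_respectsIso (P := @Etale)]
  exact (HasRingHomProperty.Spec_iff (P := @Etale)).2 h

variable {n : Type u} {S : Scheme.{u}}

/-- The translation of affine space by a vector. -/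
def translate (c : n → Γ(S, ⊤)) : AffineSpace n S ⟶ AffineSpace n S :=
  AffineSpace.homOfVector (AffineSpace n S ↘ S)
    (fun j => AffineSpace.coord S j - (AffineSpace n S ↘ S).appTop (c j))

theorem comp_translate {X : Scheme.{u}} (f : X ⟶ S) (w : n → Γ(X, ⊤)) (c : n → Γ(S, ⊤)) :
    AffineSpace.homOfVector f w ≫ translate c =
      AffineSpace.homOfVector f (fun j => w j - f.appTop (c j)) := by
  rw [translate, AffineSpace.comp_homOfVector, AffineSpace.homOfVector_over]
  congr 1
  funext j
  simp only [Function.comp_apply, map_sub, AffineSpace.homOfVector_appTop_coord]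
  congr 1
  exact congrArg (fun φ => φ.appTop (c j)) (AffineSpace.homOfVector_over f w)

theorem isIso_translate (c : n → Γ(S, ⊤)) : IsIso (translate c) := by
  have key : ∀ c : n → Γ(S, ⊤), translate c ≫ translate (-c) = 𝟙 _ := by
    intro c
    conv_lhs => arg 1; rw [translate]
    rw [comp_translate]
    apply AffineSpace.hom_ext
    · simp
    · intro j
      simp
  exact ⟨translate (-c), key c, by simpa using key (-c)⟩

end Groth.Agent.EtChart
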